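import Mathlib

/-!
The arithmetic half of the bound on the number of classes of `GL n q`: the number of tuples of
polynomials indexing the normal forms is at most `q ^ n`.
-/

set_option autoImplicit false

namespace CfsgLib.GLClassCount

open Finset

/-- Number of monic polynomials of degree `m` with non-zero constant term. -/
def levelCard (q m : ℕ) : ℕ := if m = 0 then 1 else (q - 1) * q ^ (m - 1)

/-- Number of tuples with levels `1, …, K` of total weight `n`. -/
def tupleCard (q : ℕ) : ℕ → ℕ → ℕ
  | n, 0 => if n = 0 then 1 else 0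
  | n, K + 1 => ∑ m ∈ range (n / (K + 1) + 1), levelCard q m * tupleCard q (n - (K + 1) * m) K

/-- The same sum with `q ^ m` in place of the number of polynomials. -/
def shiftSum (q K r : ℕ) : ℕ :=
  ∑ m ∈ range (r / (K + 1) + 1), q ^ m * tupleCard q (r - (K + 1) * m) K

lemma shiftSum_lt {q K r : ℕ} (h : r < K + 1) : shiftSum q K r = tupleCard q r K := by
  simp [shiftSum, Nat.div_eq_of_lt h]

lemma div_step {K r : ℕ} (h : K + 1 ≤ r) : r / (K + 1) = (r - (K + 1)) / (K + 1) + 1 := by
  conv_lhs => rw [← Nat.sub_add_cancel h]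
  rw [Nat.add_div_right _ (Nat.succ_pos K)]

lemma shiftSum_step {q K r : ℕ} (h : K + 1 ≤ r) :
    shiftSum q K r = tupleCard q r K + q * shiftSum q K (r - (K + 1)) := by
  rw [shiftSum, div_step h, sum_range_succ']
  simp only [pow_zero, mul_zero, Nat.sub_zero, one_mul]
  rw [add_comm, shiftSum, mul_sum]
  congr 1
  refine sum_congr rfl fun m _ => ?_
  rw [Nat.sub_sub, show K + 1 + (K + 1) * m = (K + 1) * (m + 1) by ring, pow_succ]
  ring

lemma tupleCard_step {q K n : ℕ} :
    tupleCard q n (K + 1) =
      tupleCard q n K + if K + 1 ≤ n then (q - 1) * shiftSum q K (n - (K + 1)) else 0 := by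
  rw [tupleCard]
  by_cases h : K + 1 ≤ n
  · rw [if_pos h, div_step h, sum_range_succ', shiftSum, mul_sum, add_comm]
    simp only [levelCard, if_true, mul_zero, Nat.sub_zero, one_mul, Nat.succ_ne_zero, if_false,
      Nat.add_sub_cancel]
    congr 1
    refine sum_congr rfl fun m _ => ?_
    rw [Nat.sub_sub, show K + 1 + (K + 1) * m = (K + 1) * (m + 1) by ring]
    ring
  · rw [if_neg h, Nat.div_eq_of_lt (by omega)]
    simp [levelCard]

/-- `tupleCard q n K ≤ q ^ n`, with a saving of `q ^ (n - K)` once `n ≥ K`. -/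
theorem tupleCard_bounds {q : ℕ} (hq : 1 ≤ q) : ∀ K n : ℕ,
    tupleCard q n K ≤ q ^ n ∧ (1 ≤ n → K ≤ n → tupleCard q n K * q ^ K + q ^ n ≤ q ^ (n + K)) := by
  intro K
  induction K with
  | zero =>
    intro n
    refine ⟨?_, fun h _ => ?_⟩
    · simp only [tupleCard]
      split
      · subst n; simp
      · simp
    · simp [tupleCard, Nat.pos_iff_ne_zero.1 h]
  | succ K ih =>
    have hU : ∀ r, shiftSum q K r ≤ q ^ r := by
      intro r
      induction r using Nat.strong_induction_on with
      | _ r ihr =>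
        by_cases hr : r < K + 1
        · rw [shiftSum_lt hr]; exact (ih r).1
        obtain ⟨s, rfl⟩ := Nat.exists_eq_add_of_le (show K + 1 ≤ r by omega)
        have h1 := (ih (K + 1 + s)).2 (by omega) (by omega)
        have h2 := ihr s (by omega)
        rw [shiftSum_step (by omega), Nat.add_sub_cancel_left]
        have hpos : 0 < q ^ K := pow_pos hq K
        refine Nat.le_of_mul_le_mul_right ?_ hpos
        have e : q * q ^ s * q ^ K = q ^ (K + 1 + s) := by ring
        have h3 : q * shiftSum q K s * q ^ K ≤ q * q ^ s * q ^ K :=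
          Nat.mul_le_mul_right _ (Nat.mul_le_mul_left _ h2)
        rw [e] at h3
        rw [add_mul, ← pow_add]
        omega
    intro n
    by_cases h : K + 1 ≤ n
    · obtain ⟨s, rfl⟩ := Nat.exists_eq_add_of_le h
      have h1 := (ih (K + 1 + s)).2 (by omega) (by omega)
      have h2 := hU s
      rw [tupleCard_step, if_pos h, Nat.add_sub_cancel_left]
      have main : (tupleCard q (K + 1 + s) K + (q - 1) * shiftSum q K s) * q ^ (K + 1) +
          q ^ (K + 1 + s) ≤ q ^ (K + 1 + s + (K + 1)) := by
        obtain ⟨q', rfl⟩ := Nat.exists_eq_add_of_le hq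
        rw [Nat.add_sub_cancel_left]
        have h3 : q' * shiftSum (1 + q') K s * (1 + q') ^ (K + 1) ≤
            q' * (1 + q') ^ (K + 1 + s) := by
          have e : q' * (1 + q') ^ (K + 1 + s) = q' * (1 + q') ^ s * (1 + q') ^ (K + 1) := by ring
          rw [e]
          exact Nat.mul_le_mul_right _ (Nat.mul_le_mul_left _ h2)
        have h4 : (tupleCard (1 + q') (K + 1 + s) K * (1 + q') ^ K + (1 + q') ^ (K + 1 + s)) *
            (1 + q') ≤ (1 + q') ^ (K + 1 + s + K) * (1 + q') :=
          Nat.mul_le_mul_right _ h1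
        have e1 : (1 + q') ^ (K + 1 + s + K) * (1 + q') = (1 + q') ^ (K + 1 + s + (K + 1)) := by
          ring
        have e2 : (tupleCard (1 + q') (K + 1 + s) K + q' * shiftSum (1 + q') K s) * (1 + q') ^ (K + 1) =
            tupleCard (1 + q') (K + 1 + s) K * (1 + q') ^ K * (1 + q') +
              q' * shiftSum (1 + q') K s * (1 + q') ^ (K + 1) := by ring
        rw [e2, ← e1]
        linarith
      refine ⟨Nat.le_of_mul_le_mul_right ?_ (pow_pos hq (K + 1)), fun _ _ => main⟩
      rw [← pow_add]
      omega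
    · refine ⟨?_, fun _ h' => absurd h' h⟩
      rw [tupleCard_step, if_neg h, add_zero]
      exact (ih n).1

theorem tupleCard_le {q : ℕ} (hq : 1 ≤ q) (n K : ℕ) : tupleCard q n K ≤ q ^ n :=
  (tupleCard_bounds hq K n).1

end CfsgLib.GLClassCount
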