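import Mathlib
import Cfsg.Agent.GLClassCount.Arith

/-!
Counting monic polynomials with non-zero constant term, and tuples of them of given weight.
-/

set_option autoImplicit false

namespace CfsgLib.GLClassCount

open Polynomial

variable (F : Type*) [Field F]

/-- Monic polynomials of degree `m` with non-zero constant term, as a type. -/
abbrev Good (m : ℕ) := {p : F[X] // (p.Monic ∧ p.natDegree = m) ∧ p.coeff 0 ≠ 0}

variable {F}

/-- Such polynomials correspond to their lower coefficient vectors. -/
noncomputable def goodEquiv (m : ℕ) :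
    Good F (m + 1) ≃ {v : Fin (m + 1) → F // v 0 ≠ 0} :=
  (Equiv.subtypeSubtypeEquivSubtypeInter (fun p : F[X] => p.Monic ∧ p.natDegree = m + 1)
      (fun p => p.coeff 0 ≠ 0)).symm.trans <|
    Equiv.subtypeEquiv ((monicEquivDegreeLT (m + 1)).trans (degreeLTEquiv F (m + 1)).toEquiv)
      fun p => by
        have h : (((monicEquivDegreeLT (m + 1)).trans (degreeLTEquiv F (m + 1)).toEquiv) p) 0 =
            p.1.eraseLead.coeff 0 := rfl
        rw [h, eraseLead_coeff_of_ne _ (by rw [p.2.2]; omega)]

variable [Fintype F]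

lemma card_good (m : ℕ) :
    Nat.card (Good F (m + 1)) = (Fintype.card F - 1) * Fintype.card F ^ m := by
  classical
  rw [Nat.card_congr (goodEquiv m)]
  have e : {v : Fin (m + 1) → F // v 0 ≠ 0} ≃ {c : F // c ≠ 0} × (Fin m → F) :=
    (Equiv.subtypeEquiv (Fin.consEquiv fun _ => F).symm (fun v => by simp [Fin.consEquiv])).trans
      (Equiv.prodSubtypeFstEquivSubtypeProd (p := fun c : F => c ≠ 0))
  rw [Nat.card_congr e, Nat.card_prod, Nat.card_eq_fintype_card, Fintype.card_subtype_compl,
    Fintype.card_subtype_eq]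
  simp [Nat.card_eq_fintype_card]

lemma finite_good (m : ℕ) : {p : F[X] | (p.Monic ∧ p.natDegree = m) ∧ p.coeff 0 ≠ 0}.Finite := by
  rcases m with _ | m
  · refine (Set.finite_singleton (1 : F[X])).subset fun p hp => ?_
    exact hp.1.1.natDegree_eq_zero.1 hp.1.2
  · exact Set.finite_coe_iff.1 (Finite.of_equiv _ (goodEquiv m).symm)

/-- The finite set of monic polynomials of degree `m` with non-zero constant term. -/
noncomputable def goodSet (m : ℕ) : Finset F[X] := (finite_good (F := F) m).toFinset

lemma mem_goodSet {m : ℕ} {p : F[X]} :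
    p ∈ goodSet m ↔ (p.Monic ∧ p.natDegree = m) ∧ p.coeff 0 ≠ 0 := Set.Finite.mem_toFinset _

lemma card_goodSet (m : ℕ) : (goodSet (F := F) m).card = levelCard (Fintype.card F) m := by
  rcases m with _ | m
  · have : goodSet (F := F) 0 = {1} := by
      ext p
      rw [mem_goodSet, Finset.mem_singleton]
      constructor
      · exact fun hp => hp.1.1.natDegree_eq_zero.1 hp.1.2
      · rintro rfl; simp [monic_one]
    rw [this]; rfl
  · rw [levelCard, if_neg (Nat.succ_ne_zero m), Nat.add_sub_cancel, ← card_good m, Good]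
    rw [goodSet, ← Set.ncard_eq_toFinset_card _ (finite_good (F := F) (m + 1)), ← Nat.card_coe_set_eq]
    rfl

open scoped Classical in
/-- Tuples indexed by `Fin K` of total weight `n`. -/
noncomputable def tupleSet : ℕ → (K : ℕ) → Finset (Fin K → F[X])
  | n, 0 => if n = 0 then Finset.univ else ∅
  | n, K + 1 => (Finset.range (n / (K + 1) + 1)).biUnion fun m =>
      (goodSet m ×ˢ tupleSet (n - (K + 1) * m) K).image fun x => Fin.snoc x.2 x.1

lemma card_tupleSet_le : ∀ K n : ℕ,
    (tupleSet (F := F) n K).card ≤ tupleCard (Fintype.card F) n K := by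
  classical
  intro K
  induction K with
  | zero =>
    intro n
    simp only [tupleSet, tupleCard]
    split <;> simp
  | succ K ih =>
    intro n
    rw [tupleSet, tupleCard]
    refine Finset.card_biUnion_le.trans (Finset.sum_le_sum fun m _ => ?_)
    refine Finset.card_image_le.trans ?_
    rw [Finset.card_product, card_goodSet]
    exact Nat.mul_le_mul_left _ (ih _)

lemma mem_tupleSet : ∀ (K n : ℕ) (g : Fin K → F[X]), (∀ k, (g k).Monic ∧ (g k).coeff 0 ≠ 0) →
    ∑ k, (k.val + 1) * (g k).natDegree = n → g ∈ tupleSet n K := by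
  classical
  intro K
  induction K with
  | zero =>
    intro n g _ hsum
    simp only [tupleSet]
    rw [if_pos (by simpa using hsum.symm)]
    exact Finset.mem_univ _
  | succ K ih =>
    intro n g hg hsum
    rw [Fin.sum_univ_castSucc] at hsum
    simp only [Fin.val_castSucc, Fin.val_last] at hsum
    set m := (g (Fin.last K)).natDegree with hm
    rw [tupleSet, Finset.mem_biUnion]
    refine ⟨m, Finset.mem_range.2 ?_, Finset.mem_image.2 ⟨(g (Fin.last K), Fin.init g), ?_, ?_⟩⟩
    · rw [Nat.lt_succ_iff, Nat.le_div_iff_mul_le (Nat.succ_pos K), Nat.mul_comm]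
      have : K.succ * m = (K + 1) * m := rfl
      omega
    · refine Finset.mem_product.2 ⟨mem_goodSet.2 ⟨⟨(hg _).1, hm.symm⟩, (hg _).2⟩, ?_⟩
      refine ih _ _ (fun k => hg _) ?_
      simp only [Fin.init]
      omega
    · exact Fin.snoc_init_self g

end CfsgLib.GLClassCount
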