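import Mathlib
import Cfsg.Agent.GLClassCount.Polys

/-!
Invertible matrices up to conjugacy are classified by tuples of monic polynomials with non-zero
constant term.
-/

set_option autoImplicit false

namespace CfsgLib.GLClassCount

open Polynomial Module

universe u

variable {F : Type u} [Field F] {n : ℕ}

/-- The `F[X]`-module of an invertible matrix. -/
abbrev glModule (x : GL (Fin n) F) := Module.AEval' (Matrix.toLin' (x : Matrix (Fin n) (Fin n) F))

lemma finrank_span_quotient (p : F[X]) :
    finrank F (F[X] ⧸ Submodule.span F[X] ({p} : Set F[X])) = p.natDegree := by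
  exact finrank_quotient_span_eq_natDegree

/-- Decomposition of the module into cyclic primary modules. -/
lemma exists_decomp [Finite F] (x : GL (Fin n) F) :
    ∃ (ι : Type u) (_ : Fintype ι) (p : ι → F[X]) (e : ι → ℕ),
      (∀ i, (p i).Monic ∧ Irreducible (p i) ∧ (p i).coeff 0 ≠ 0 ∧ 0 < e i) ∧
      (∑ i, e i * (p i).natDegree = n) ∧
      Nonempty (glModule x ≃ₗ[F[X]] ((i : ι) → F[X] ⧸ Submodule.span F[X] {p i ^ e i})) := by
  classical
  set f := Matrix.toLin' (x : Matrix (Fin n) (Fin n) F) with hf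
  have htors : Module.IsTorsion F[X] (Module.AEval' f) :=
    Module.AEval.isTorsion_of_finiteDimensional F (Fin n → F) f
  obtain ⟨ι, hι, p, hp, e, ⟨E⟩⟩ := Module.equiv_directSum_of_isTorsion htors
  let ι' := {i : ι // e i ≠ 0}
  let p' : ι' → F[X] := fun i => normalize (p i.1)
  have hspan : ∀ i : ι', Submodule.span F[X] ({p i.1 ^ e i.1} : Set F[X]) =
      Submodule.span F[X] {p' i ^ e i.1} := fun i => by
    refine Ideal.span_singleton_eq_span_singleton.2 ?_
    exact ((normalize_associated (p i.1)).symm).pow_pow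
  let φ : ((i : ι) → F[X] ⧸ Submodule.span F[X] ({p i ^ e i} : Set F[X])) →ₗ[F[X]]
      ((i : ι') → F[X] ⧸ Submodule.span F[X] ({p i.1 ^ e i.1} : Set F[X])) :=
    LinearMap.pi fun i => LinearMap.proj i.1
  have hφ : Function.Bijective φ := by
    constructor
    · intro y z hyz
      funext i
      by_cases hi : e i = 0
      · have : Subsingleton (F[X] ⧸ Submodule.span F[X] ({p i ^ e i} : Set F[X])) := by
          rw [Submodule.Quotient.subsingleton_iff, hi, pow_zero]
          exact Ideal.span_singleton_one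
        exact Subsingleton.elim _ _
      · exact congrFun hyz ⟨i, hi⟩
    · intro z
      refine ⟨fun i => if h : e i ≠ 0 then z ⟨i, h⟩ else 0, ?_⟩
      funext i
      simp [φ, i.2]
      rfl
  let E' : glModule x ≃ₗ[F[X]] ((i : ι') → F[X] ⧸ Submodule.span F[X] {p' i ^ e i.1}) :=
    E.trans ((DirectSum.linearEquivFunOnFintype F[X] ι _).trans
      ((LinearEquiv.ofBijective φ hφ).trans
        (LinearEquiv.piCongrRight fun i => Submodule.quotEquivOfEq _ _ (hspan i))))
  refine ⟨ι', inferInstance, p', fun i => e i.1, fun i => ⟨monic_normalize (hp i.1).ne_zero,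
    (normalize_associated (p i.1)).symm.irreducible (hp i.1), ?_, Nat.pos_of_ne_zero i.2⟩, ?_, ⟨E'⟩⟩
  · intro h0
    have hX : p' i = X := by
      have hd : X ∣ p' i := X_dvd_iff.2 h0
      have hass := Irreducible.associated_of_dvd irreducible_X
        ((normalize_associated (p i.1)).symm.irreducible (hp i.1)) hd
      exact (eq_of_monic_of_associated monic_X (monic_normalize (hp i.1).ne_zero) hass).symm
    have he : e i.1 = e i.1 - 1 + 1 := by have := i.2; omega
    set y : (i : ι') → F[X] ⧸ Submodule.span F[X] {p' i ^ e i.1} :=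
      Pi.single i (Submodule.Quotient.mk ((X : F[X]) ^ (e i.1 - 1))) with hy
    have hXy : (X : F[X]) • y = 0 := by
      rw [hy, ← Pi.single_smul]
      rw [← Submodule.Quotient.mk_smul, smul_eq_mul, ← pow_succ', ← he]
      rw [(Submodule.Quotient.mk_eq_zero _).2 (by rw [hX]; exact Submodule.mem_span_singleton_self _)]
      exact Pi.single_zero _
    have hy0 : E'.symm y = 0 := by
      have h1 : (X : F[X]) • E'.symm y = 0 := by rw [← map_smul, hXy, map_zero]
      have h2 := congrArg (Module.AEval'.of f).symm h1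
      rw [Module.AEval'.of_symm_X_smul, map_zero] at h2
      set v := (Module.AEval'.of f).symm (E'.symm y) with hv
      have h3 : (x : Matrix (Fin n) (Fin n) F).mulVec v = 0 := by simpa [hf] using h2
      have h4 : v = 0 := by
        have h5 := congrArg ((↑x⁻¹ : Matrix (Fin n) (Fin n) F).mulVec) h3
        rwa [Matrix.mulVec_mulVec, Units.inv_mul, Matrix.one_mulVec, Matrix.mulVec_zero] at h5
      rw [hv, LinearEquiv.map_eq_zero_iff] at h4
      exact h4
    rw [LinearEquiv.map_eq_zero_iff, hy, Pi.single_eq_zero_iff, Submodule.Quotient.mk_eq_zero,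
      hX, Submodule.mem_span_singleton] at hy0
    obtain ⟨c, hc⟩ := hy0
    have : (X : F[X]) ^ e i.1 ∣ X ^ (e i.1 - 1) := ⟨c, by rw [← hc, smul_eq_mul, mul_comm]⟩
    rw [pow_dvd_pow_iff X_ne_zero (by exact not_isUnit_X)] at this
    omega
  · have hn : finrank F (glModule x) = n := by
      rw [← (Module.AEval'.of f).finrank_eq, finrank_fin_fun]
    have : ∀ i : ι', Module.Finite F (F[X] ⧸ Submodule.span F[X] ({p' i ^ e i.1} : Set F[X])) :=
      fun i => (monic_normalize (hp i.1).ne_zero).pow (e i.1) |>.finite_quotient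
    rw [(E'.restrictScalars F).finrank_eq, Module.finrank_pi_fintype] at hn
    simp only [finrank_span_quotient, natDegree_pow] at hn
    exact hn

/-- The tuple attached to a decomposition. -/
noncomputable def levelProd {ι : Type*} [Fintype ι] (n : ℕ) (p : ι → F[X]) (e : ι → ℕ) :
    Fin n → F[X] :=
  fun k => ∏ i ∈ Finset.univ.filter (fun i => e i = k.val + 1), p i

lemma exponent_le {ι : Type*} [Fintype ι] {p : ι → F[X]} {e : ι → ℕ}
    (hp : ∀ i, Irreducible (p i)) (hsum : ∑ i, e i * (p i).natDegree = n) (i : ι) : e i ≤ n := by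
  have h1 : 1 ≤ (p i).natDegree := (hp i).natDegree_pos
  have h2 : e i * (p i).natDegree ≤ n :=
    hsum ▸ Finset.single_le_sum (f := fun i => e i * (p i).natDegree) (fun j _ => Nat.zero_le _)
      (Finset.mem_univ i)
  nlinarith

lemma levelProd_mem [Fintype F] {ι : Type*} [Fintype ι] {p : ι → F[X]} {e : ι → ℕ}
    (hp : ∀ i, (p i).Monic ∧ Irreducible (p i) ∧ (p i).coeff 0 ≠ 0 ∧ 0 < e i)
    (hsum : ∑ i, e i * (p i).natDegree = n) : levelProd n p e ∈ tupleSet n n := by
  classical
  refine mem_tupleSet n n _ (fun k => ⟨monic_prod_of_monic _ _ fun i _ => (hp i).1, ?_⟩) ?_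
  · rw [levelProd, coeff_zero_prod]
    exact Finset.prod_ne_zero_iff.2 fun i _ => (hp i).2.2.1
  · conv_rhs => rw [← hsum]
    have hmaps : ∀ i ∈ (Finset.univ : Finset ι),
        e i ∈ (Finset.univ : Finset (Fin n)).image (fun k => k.val + 1) := fun i _ => by
      have h1 := exponent_le (fun i => (hp i).2.1) hsum i
      have h2 := (hp i).2.2.2
      exact Finset.mem_image.2 ⟨⟨e i - 1, by omega⟩, Finset.mem_univ _, by simp; omega⟩
    rw [← Finset.sum_fiberwise_of_maps_to hmaps, Finset.sum_image (fun a _ b _ h => Fin.ext (by omega))]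
    refine Finset.sum_congr rfl fun k _ => ?_
    rw [levelProd, natDegree_prod_of_monic _ _ fun i _ => (hp i).1, Finset.mul_sum]
    exact Finset.sum_congr rfl fun i hi => by rw [(Finset.mem_filter.1 hi).2]

/-- The prime factors of a component of the tuple. -/
lemma normalizedFactors_levelProd {σ : Type*} [Fintype σ] [DecidableEq F] {p : σ → F[X]} (e : σ → ℕ)
    (hp : ∀ i, (p i).Monic ∧ Irreducible (p i)) (k : Fin n) :
    UniqueFactorizationMonoid.normalizedFactors (levelProd n p e k) =
      (Finset.univ.filter (fun i => e i = k.val + 1)).val.map p := by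
  rw [levelProd, Finset.prod_eq_multiset_prod,
    UniqueFactorizationMonoid.normalizedFactors_prod_eq _ fun a ha => ?_]
  · rw [Multiset.map_map]
    exact Multiset.map_congr rfl fun i _ => ((hp i).1.normalize_eq_self)
  · obtain ⟨i, _, rfl⟩ := Multiset.mem_map.1 ha
    exact (hp i).2

/-- Equal tuples give isomorphic modules. -/
lemma equiv_of_levelProd_eq {ι κ : Type*} [Fintype ι] [Fintype κ] {p : ι → F[X]} {e : ι → ℕ}
    {r : κ → F[X]} {d : κ → ℕ}
    (hp : ∀ i, (p i).Monic ∧ Irreducible (p i) ∧ (p i).coeff 0 ≠ 0 ∧ 0 < e i)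
    (hr : ∀ j, (r j).Monic ∧ Irreducible (r j) ∧ (r j).coeff 0 ≠ 0 ∧ 0 < d j)
    (hpn : ∑ i, e i * (p i).natDegree = n) (hrn : ∑ j, d j * (r j).natDegree = n)
    (h : levelProd n p e = levelProd n r d) :
    Nonempty (((i : ι) → F[X] ⧸ Submodule.span F[X] {p i ^ e i}) ≃ₗ[F[X]]
      ((j : κ) → F[X] ⧸ Submodule.span F[X] {r j ^ d j})) := by
  classical
  let f : ι → F[X] × ℕ := fun i => (p i, e i)
  let g : κ → F[X] × ℕ := fun j => (r j, d j)
  have hcard : ∀ c, Fintype.card {i // f i = c} = Fintype.card {j // g j = c} := by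
    rintro ⟨P, k⟩
    by_cases hk : 1 ≤ k ∧ k ≤ n
    · have h1 := congrFun h ⟨k - 1, by omega⟩
      have h2 : Multiset.count P ((Finset.univ.filter (fun i => e i = k)).val.map p) =
          Multiset.count P ((Finset.univ.filter (fun j => d j = k)).val.map r) := by
        have a := normalizedFactors_levelProd (n := n) e (fun i => ⟨(hp i).1, (hp i).2.1⟩) ⟨k - 1, by omega⟩
        have b := normalizedFactors_levelProd (n := n) d (fun j => ⟨(hr j).1, (hr j).2.1⟩) ⟨k - 1, by omega⟩
        rw [h1, b] at a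
        simp only [Nat.sub_add_cancel hk.1] at a
        rw [a]
      rw [Multiset.count_map, Multiset.count_map, ← Finset.filter_val, ← Finset.filter_val,
        Finset.card_val, Finset.card_val, Finset.filter_filter, Finset.filter_filter] at h2
      simp only [Fintype.card_subtype, f, g, Prod.mk.injEq]
      convert h2 using 2 <;> (apply Finset.filter_congr; intros; constructor <;>
        (rintro ⟨u, v⟩; exact ⟨v.symm ▸ rfl, u.symm ▸ rfl⟩))
    · rw [Fintype.card_eq_zero_iff.2 ⟨fun i => hk ?_⟩, Fintype.card_eq_zero_iff.2 ⟨fun j => hk ?_⟩]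
      · have e1 : d j.1 = k := congrArg Prod.snd j.2
        exact e1 ▸ ⟨(hr j.1).2.2.2, exponent_le (fun j => (hr j).2.1) hrn j.1⟩
      · have e1 : e i.1 = k := congrArg Prod.snd i.2
        exact e1 ▸ ⟨(hp i.1).2.2.2, exponent_le (fun i => (hp i).2.1) hpn i.1⟩
  let σ : ι ≃ κ := Equiv.ofFiberEquiv (f := f) (g := g) fun c => Fintype.equivOfCardEq (hcard c)
  have hσ : ∀ i, g (σ i) = f i := fun i => Equiv.ofFiberEquiv_map _ i
  refine ⟨(LinearEquiv.piCongrRight fun i => Submodule.quotEquivOfEq _ _ ?_).trans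
    (LinearEquiv.piCongrLeft F[X] (fun j => F[X] ⧸ Submodule.span F[X] ({r j ^ d j} : Set F[X])) σ)⟩
  have h1 := congrArg Prod.fst (hσ i)
  have h2 := congrArg Prod.snd (hσ i)
  simp only [f, g] at h1 h2
  rw [h1, h2]

/-- Isomorphic modules give conjugate matrices. -/
lemma isConj_of_equiv {x y : GL (Fin n) F} (E : glModule x ≃ₗ[F[X]] glModule y) : IsConj x y := by
  set f := Matrix.toLin' (x : Matrix (Fin n) (Fin n) F) with hf
  set g := Matrix.toLin' (y : Matrix (Fin n) (Fin n) F) with hg
  let L : (Fin n → F) ≃ₗ[F] (Fin n → F) :=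
    (Module.AEval'.of f).trans ((E.restrictScalars F).trans (Module.AEval'.of g).symm)
  have hL : ∀ v, L (f v) = g (L v) := fun v => by
    simp only [L, LinearEquiv.trans_apply, LinearEquiv.restrictScalars_apply]
    rw [← Module.AEval'.X_smul_of, map_smul, Module.AEval'.of_symm_X_smul]
  let c : GL (Fin n) F :=
    ⟨LinearMap.toMatrix' L.toLinearMap, LinearMap.toMatrix' L.symm.toLinearMap,
      by rw [← LinearMap.toMatrix'_comp]; simp,
      by rw [← LinearMap.toMatrix'_comp]; simp⟩
  refine isConj_iff.2 ⟨c, ?_⟩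
  rw [mul_inv_eq_iff_eq_mul]
  apply Units.ext
  apply Matrix.ext_of_mulVec_single
  intro i
  have hc : ∀ v, (c : Matrix (Fin n) (Fin n) F).mulVec v = L v := fun v =>
    LinearMap.toMatrix'_mulVec _ v
  rw [Units.val_mul, Units.val_mul, ← Matrix.mulVec_mulVec, ← Matrix.mulVec_mulVec, hc, hc]
  simpa [hf, hg] using hL (Pi.single i 1)

/-- The class number of `GL n q` is at most `q ^ n`. -/
theorem card_classes_le [Fintype F] :
    Nat.card (ConjClasses (GL (Fin n) F)) ≤ Fintype.card F ^ n := by
  classical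
  have hex : ∀ C : ConjClasses (GL (Fin n) F), ∃ x : GL (Fin n) F, ConjClasses.mk x = C :=
    fun C => ConjClasses.mk_surjective C
  choose rep hrep using hex
  choose ι hι p e hp hsum hE using fun C => exists_decomp (rep C)
  let D : ConjClasses (GL (Fin n) F) → ↥(tupleSet (F := F) n n) := fun C =>
    ⟨@levelProd F _ (ι C) (hι C) n (p C) (e C), @levelProd_mem F _ n _ (ι C) (hι C) _ _ (hp C) (hsum C)⟩
  have hD : Function.Injective D := by
    intro C C' h
    have h' := congrArg Subtype.val h
    have := hι C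
    have := hι C'
    obtain ⟨T⟩ := @equiv_of_levelProd_eq F _ n (ι C) (ι C') (hι C) (hι C') _ _ _ _ (hp C) (hp C') (hsum C) (hsum C') h'
    obtain ⟨E⟩ := hE C
    obtain ⟨E'⟩ := hE C'
    rw [← hrep C, ← hrep C', ConjClasses.mk_eq_mk_iff_isConj]
    exact isConj_of_equiv (E.trans (T.trans E'.symm))
  refine (Nat.card_le_card_of_injective D hD).trans ?_
  rw [Nat.card_eq_fintype_card, Fintype.card_coe]
  exact (card_tupleSet_le n n).trans (tupleCard_le Fintype.card_pos n n)

/-- The class number of `GL n q` is at least the number of possible characteristic polynomials. -/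
theorem le_card_classes [Fintype F] (hn : 1 ≤ n) :
    Fintype.card F ^ n - Fintype.card F ^ (n - 1) ≤ Nat.card (ConjClasses (GL (Fin n) F)) := by
  classical
  obtain ⟨m, rfl⟩ : ∃ m, n = m + 1 := ⟨n - 1, by omega⟩
  have hmk : ∀ P : Good F (m + 1), ∃ x : GL (Fin (m + 1)) F,
      (x : Matrix (Fin (m + 1)) (Fin (m + 1)) F).charpoly = P.1 := by
    rintro ⟨P, ⟨hm, hdeg⟩, h0⟩
    let pb := AdjoinRoot.powerBasis hm.ne_zero
    let A := Algebra.leftMulMatrix pb.basis pb.gen
    have hA : A.charpoly = P := by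
      rw [charpoly_leftMulMatrix, AdjoinRoot.minpoly_powerBasis_gen_of_monic hm]
    have hdim : pb.dim = m + 1 := by simpa [pb] using hdeg
    let B := A.reindex (finCongr hdim) (finCongr hdim)
    have hB : B.charpoly = P := by rw [Matrix.charpoly_reindex, hA]
    have hdet : IsUnit B.det := by
      rw [isUnit_iff_ne_zero, Matrix.det_eq_sign_charpoly_coeff, hB]
      exact mul_ne_zero (pow_ne_zero _ (neg_ne_zero.2 one_ne_zero)) h0
    exact ⟨((Matrix.isUnit_iff_isUnit_det B).2 hdet).unit, by simpa using hB⟩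
  choose mk hmk using hmk
  have hinj : Function.Injective (fun P => ConjClasses.mk (mk P)) := by
    intro P P' h
    obtain ⟨c, hc⟩ := isConj_iff.1 (ConjClasses.mk_eq_mk_iff_isConj.1 h)
    apply Subtype.ext
    rw [← hmk P, ← hmk P', ← hc, Units.val_mul, Units.val_mul, Matrix.coe_units_inv, Matrix.charpoly_units_conj]
  have h1 := Nat.card_le_card_of_injective _ hinj
  rw [card_good, Nat.sub_mul, one_mul, ← pow_succ'] at h1
  rw [Nat.add_sub_cancel]
  exact h1

end CfsgLib.GLClassCount
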